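import Cfsg.Agent.Lib.LocalBalance.Criterion
import Cfsg.Agent.Lib.PSLAut.GraphForms
import Cfsg.Agent.Lib.PSLAut.GraphField

/-!
# Failure of local balance in `PSL_n(F)`: generalities on automorphisms
-/

set_option autoImplicit false
set_option linter.unusedSectionVars false

namespace Cfsg.Agent.Lib.PSLBalance

open scoped MatrixGroups
open Matrix PSLAut

variable {n : ℕ} {F : Type*} [Field F] [Fintype F]

theorem conj_injective_psl (hn : 2 ≤ n) :
    Function.Injective (MulAut.conj : PSLn n F →* MulAut (PSLn n F)) := by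
  rw [injective_iff_map_eq_one]
  intro k hk
  obtain ⟨s, rfl⟩ := proj_surjective k
  rw [← conj_toGL, PSLAut.conj_eq_one_iff] at hk
  rw [proj_apply, QuotientGroup.eq_one_iff, Subgroup.mem_center_iff]
  exact fun t => Matrix.SpecialLinearGroup.toGL_injective (by
    rw [map_mul, map_mul]; exact Subgroup.mem_center_iff.1 hk _)

/-- Every automorphism has one of two normal forms; the second is needed for `n ≥ 3` only. -/
theorem normal_form (hn : 2 ≤ n) (β : MulAut (PSLn n F)) :
    ∃ (g : GL (Fin n) F) (σ : F ≃+* F),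
      β = conj g * fieldAut σ ∨ (3 ≤ n ∧ β = conj g * fieldAut σ * invTrans) := by
  obtain ⟨g, σ, ε, rfl | rfl, rfl⟩ := exists_eq_conj_mul_fieldAut_mul hn β
  · exact ⟨g, σ, Or.inl (mul_one _)⟩
  · rcases eq_or_lt_of_le hn with rfl | h3
    · obtain ⟨w, hw⟩ := invTrans_eq_conj_two (F := F)
      refine ⟨g * glField σ w, σ, Or.inl ?_⟩
      rw [hw, mul_assoc, fieldAut_mul_conj, ← mul_assoc, ← map_mul]
    · exact ⟨g, σ, Or.inr ⟨h3, rfl⟩⟩

theorem mul_self_graph (g : GL (Fin n) F) (σ : F ≃+* F) :
    ∃ (g' : GL (Fin n) F) (σ' : F ≃+* F),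
      (conj g * fieldAut σ * invTrans) * (conj g * fieldAut σ * invTrans) = conj g' * fieldAut σ' := by
  refine ⟨g * glField σ (glInvTrans g), σ * σ, ?_⟩
  calc (conj g * fieldAut σ * invTrans : MulAut (PSLn n F)) * (conj g * fieldAut σ * invTrans)
      = conj g * (fieldAut σ * invTrans * conj g) * (fieldAut σ * invTrans) := by group
    _ = conj g * conj (glField σ (glInvTrans g)) * (fieldAut σ * (invTrans * fieldAut σ) * invTrans) := by
        rw [graphField_mul_conj]; group
    _ = _ := by
        rw [invTrans_mul_fieldAut, map_mul, map_mul, mul_assoc (fieldAut σ) (fieldAut σ * invTrans),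
          mul_assoc (fieldAut σ) invTrans, invTrans_mul_self, mul_one]

theorem form_mul (g h : GL (Fin n) F) (σ τ : F ≃+* F) :
    (conj g * fieldAut σ) * (conj h * fieldAut τ : MulAut (PSLn n F))
      = conj (g * glField σ h) * fieldAut (σ * τ) := by
  rw [mul_assoc, ← mul_assoc (fieldAut σ), fieldAut_mul_conj, map_mul, map_mul]
  simp only [mul_assoc]

/-- An automorphism involving the inverse transpose has no odd power equal to one. -/
theorem graph_pow_ne_one (hn : 3 ≤ n) (g : GL (Fin n) F) (σ : F ≃+* F) {k : ℕ} (hk : Odd k) :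
    (conj g * fieldAut σ * invTrans : MulAut (PSLn n F)) ^ k ≠ 1 := by
  set x : MulAut (PSLn n F) := conj g * fieldAut σ * invTrans with hx
  have key : ∀ j : ℕ, ∃ (g' : GL (Fin n) F) (σ' : F ≃+* F),
      x ^ (2 * j + 1) = conj g' * fieldAut σ' * invTrans := by
    intro j
    induction j with
    | zero => exact ⟨g, σ, pow_one x⟩
    | succ j ih =>
      obtain ⟨g', σ', h'⟩ := ih
      obtain ⟨g₂, σ₂, h2⟩ := mul_self_graph g σ
      refine ⟨g₂ * glField σ₂ g', σ₂ * σ', ?_⟩
      rw [show 2 * (j + 1) + 1 = 2 + (2 * j + 1) by ring, pow_add, sq, h', h2, ← mul_assoc, form_mul]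
  obtain ⟨j, rfl⟩ := hk
  obtain ⟨g', σ', h'⟩ := key j
  intro h
  rw [h'] at h
  have h2 := normalForm_injective hn (g := g') (σ := σ') (g' := 1) (σ' := 1) (b := true) (b' := false)
    (by simpa using h)
  exact Bool.noConfusion h2.2.2

theorem form_ne_graph (hn : 3 ≤ n) (g g' : GL (Fin n) F) (σ σ' : F ≃+* F) :
    (conj g * fieldAut σ * invTrans : MulAut (PSLn n F)) ≠ conj g' * fieldAut σ' := by
  intro h
  have h2 := normalForm_injective hn (g := g) (σ := σ) (g' := g') (σ' := σ') (b := true) (b' := false)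
    (by simpa using h)
  exact Bool.noConfusion h2.2.2

/-- An automorphism of odd order has the first normal form. -/
theorem form_of_odd (hn : 2 ≤ n) (a : MulAut (PSLn n F)) (hodd : Odd (orderOf a)) :
    ∃ (g : GL (Fin n) F) (σ : F ≃+* F), a = conj g * fieldAut σ := by
  obtain ⟨g, σ, h | ⟨h3, h⟩⟩ := normal_form hn a
  · exact ⟨g, σ, h⟩
  · exact absurd (h ▸ pow_orderOf_eq_one a) (graph_pow_ne_one h3 g σ hodd)

theorem slField_transvection (σ : F ≃+* F) {i j : Fin n} (h : i ≠ j) (t : F) :
    slField σ (Matrix.SpecialLinearGroup.transvection h t : SLn n F)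
      = Matrix.SpecialLinearGroup.transvection h (σ t) := by
  refine Subtype.ext ?_
  show (_ : Matrix (Fin n) (Fin n) F).map σ = _
  rw [Matrix.SpecialLinearGroup.transvection_coe, Matrix.SpecialLinearGroup.transvection_coe]
  ext a b
  simp only [Matrix.map_apply, Matrix.add_apply, Matrix.one_apply, Matrix.single_apply, map_add]
  congr 1 <;> split_ifs <;> simp

/-- A diagonal map fixing the elements `x_{ij}(1)` acts trivially. -/
theorem conj_eq_one_of_fix_one (hn : 2 ≤ n) (g : GL (Fin n) F)
    (h : ∀ i j, ∀ hij : i ≠ j, conj g (rootElt i j hij 1) = rootElt i j hij 1) : conj g = 1 := by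
  refine aut_ext_rootElt fun i j hij t => ?_
  have h2 := h i j hij
  rw [rootElt_eq, conj_proj, Flag.slConjFun_el] at h2
  have h3 := Flag.proj_el_eq_proj_el _ _ h2
  rw [one_smul, one_smul] at h3
  rw [rootElt_eq, conj_proj, Flag.slConjFun_el, MulAut.one_apply]
  refine congrArg proj (Subtype.ext ?_)
  rw [Flag.coe_el, Flag.coe_el, h3]

/-- The inverse transpose turns every root around. -/
theorem graph_not_fix (hn : 3 ≤ n) (g : GL (Fin n) F) (σ : F ≃+* F) :
    ∃ (i j : Fin n) (hij : i ≠ j),
      (conj g * fieldAut σ * invTrans : MulAut (PSLn n F)) (rootElt i j hij 1) ≠ rootElt i j hij 1 := by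
  by_contra hno
  push Not at hno
  have hcol : ∀ i j : Fin n, i ≠ j → ∀ a, a ≠ i → (g : Matrix (Fin n) (Fin n) F) a j = 0 := by
    intro i j hij a ha
    have h2 := hno i j hij
    have e1 : invTrans (rootElt (F := F) i j hij 1) = proj ((Flag.std j i hij.symm).el (-1)) := by
      rw [rootElt_eq, Flag.invTrans_el]; rfl
    rw [MulAut.mul_apply, MulAut.mul_apply, e1, ← rootElt_eq, fieldAut_rootElt, map_neg, map_one,
      rootElt_eq, conj_proj, Flag.slConjFun_el, rootElt_eq] at h2
    have h3 := Flag.proj_el_eq_proj_el _ _ h2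
    rw [one_smul, Flag.act_mat] at h3
    have h4 := congrArg (fun M => (M * (g : Matrix (Fin n) (Fin n) F)) a i) h3
    simp only [neg_one_smul, Matrix.neg_mul, Matrix.mul_assoc, Units.inv_mul, Matrix.mul_one,
      Matrix.neg_apply] at h4
    simp [Flag.mat, Flag.std, ← Matrix.single_eq_single_vecMulVec_single, ha] at h4
    exact h4
  set i : Fin n := ⟨0, by omega⟩
  set j : Fin n := ⟨1, by omega⟩
  set k : Fin n := ⟨2, by omega⟩
  refine GeneralLinearGroup.det_ne_zero g (Matrix.det_eq_zero_of_column_eq_zero j fun a => ?_)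
  rcases eq_or_ne a i with rfl | ha
  · exact hcol k j (by simp [j, k, Fin.ext_iff]) _ (by simp [i, k, Fin.ext_iff])
  · exact hcol i j (by simp [i, j, Fin.ext_iff]) a ha

end Cfsg.Agent.Lib.PSLBalance
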