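import Cfsg.Agent.Lib.PSLBalance.Common
import Cfsg.Agent.Lib.PSLAut.Sylow
import Cfsg.Agent.Lib.PSpAut.FieldBalance
import Cfsg.Agent.Lib.LinGroup.Simple
import Cfsg.Agent.Lib.LinGroup.Order

/-!
# Failure of local balance in `PSL_n(F)` at a field automorphism of prime order
-/

set_option autoImplicit false
set_option linter.unusedSectionVars false

namespace Cfsg.Agent.Lib.PSLBalance

open scoped MatrixGroups
open Matrix PSLAut FieldDescent

variable {n : ℕ} {F : Type*} [Field F] [Fintype F]

theorem natCard_GL (hn : 1 ≤ n) : Nat.card (GL (Fin n) F) = (Fintype.card F - 1) * Nat.card (SLn n F) := by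
  rw [LinGroup.card_SL_mul n hn, LinGroup.card_GL_fintype]

/-- A prime dividing `|GL_n|` divides `|PSL_n|`, unless it is the characteristic. -/
theorem dvd_card_psl (hn : 2 ≤ n) {r : ℕ} [Fact r.Prime] [CharP F r] {p : ℕ} (hp : p.Prime) (hpr : p ≠ r)
    (h : p ∣ Nat.card (GL (Fin n) F)) : p ∣ Nat.card (PSLn n F) := by
  classical
  haveI : Fact p.Prime := ⟨hp⟩
  haveI : Nonempty (Fin n) := ⟨⟨0, by omega⟩⟩
  by_cases hq : p ∣ Nat.card Fˣ
  · obtain ⟨a, ha⟩ := exists_prime_orderOf_dvd_card' (G := Fˣ) p hq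
    have hap : a ^ p = 1 := by rw [← ha, pow_orderOf_eq_one]
    set i : Fin n := ⟨0, by omega⟩
    set j : Fin n := ⟨1, by omega⟩
    have hij : i ≠ j := by simp [i, j, Fin.ext_iff]
    suffices hs : ∃ s : SLn n F, proj s ≠ 1 ∧ proj (s ^ p) = 1 by
      obtain ⟨s, h1, h2⟩ := hs
      rw [← orderOf_eq_prime (p := p) (by rw [← map_pow, h2]) h1]
      exact orderOf_dvd_natCard _
    have hne : ∀ {s : SLn n F}, (s : Matrix (Fin n) (Fin n) F) i j ≠ 0 ∨
        (∃ k, (s : Matrix (Fin n) (Fin n) F) i i ≠ (s : Matrix (Fin n) (Fin n) F) k k) → proj s ≠ 1 := by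
      intro s hs h1
      rw [proj_apply, QuotientGroup.eq_one_iff, Matrix.SpecialLinearGroup.mem_center_iff] at h1
      obtain ⟨c, -, hc⟩ := h1
      rcases hs with hs | ⟨k, hs⟩
      · exact hs (by rw [← hc]; simp [hij])
      · exact hs (by rw [← hc]; simp)
    by_cases hex : n = 2 ∧ p = 2
    · obtain ⟨rfl, rfl⟩ := hex
      let w : SLn 2 F := ⟨!![0, 1; -1, 0], by simp [Matrix.det_fin_two]⟩
      refine ⟨w, hne (Or.inl (by simp [w, i, j])), ?_⟩
      rw [proj_apply, QuotientGroup.eq_one_iff, Matrix.SpecialLinearGroup.mem_center_iff]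
      refine ⟨-1, by simp, ?_⟩
      rw [Matrix.SpecialLinearGroup.coe_pow, sq]
      ext x y
      fin_cases x <;> fin_cases y <;> simp [w, Matrix.mul_apply, Fin.sum_univ_two]
    · let d : Fin n → Fˣ := Function.update (Function.update (fun _ => 1) i a) j a⁻¹
      have hdet : (Matrix.diagonal fun k => ((d k : Fˣ) : F)).det = 1 := by
        rw [Matrix.det_diagonal, ← Finset.mul_prod_erase _ _ (Finset.mem_univ i),
          ← Finset.mul_prod_erase _ _ (Finset.mem_erase.2 ⟨hij.symm, Finset.mem_univ j⟩),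
          Finset.prod_eq_one fun k hk => by
            simp only [Finset.mem_erase, ne_eq] at hk
            simp [d, Function.update_of_ne hk.1, Function.update_of_ne hk.2.1]]
        simp [d, Function.update_of_ne hij]
      let D : SLn n F := ⟨_, hdet⟩
      refine ⟨D, hne (Or.inr ?_), ?_⟩
      · by_cases h3 : 3 ≤ n
        · set l : Fin n := ⟨2, by omega⟩
          refine ⟨l, ?_⟩
          have hli : l ≠ i := by simp [i, l, Fin.ext_iff]
          have hlj : l ≠ j := by simp [j, l, Fin.ext_iff]
          simp [D, d, Function.update_of_ne hij, Function.update_of_ne hli, Function.update_of_ne hlj]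
          intro h1
          rw [h1, orderOf_one] at ha
          exact hp.one_lt.ne ha
        · refine ⟨j, ?_⟩
          simp [D, d, Function.update_of_ne hij]
          intro h1
          have h2 : orderOf a ∣ 2 := orderOf_dvd_of_pow_eq_one (Units.ext (by
            rw [sq, Units.val_mul, Units.val_one]
            nth_rewrite 2 [h1]
            exact mul_inv_cancel₀ a.ne_zero))
          rw [ha] at h2
          exact hex ⟨by omega, (Nat.prime_dvd_prime_iff_eq hp Nat.prime_two).1 h2⟩
      · refine (congrArg proj (Subtype.ext ?_)).trans (map_one (proj (n := n) (F := F)))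
        rw [Matrix.SpecialLinearGroup.coe_pow]
        show (Matrix.diagonal fun k => ((d k : Fˣ) : F)) ^ p = 1
        rw [Matrix.diagonal_pow, ← Matrix.diagonal_one]
        refine congrArg _ (funext fun k => ?_)
        rw [Pi.pow_apply, ← Units.val_pow_eq_pow_val]
        by_cases hkj : k = j
        · subst hkj; simp [d, hap]
        · by_cases hki : k = i
          · subst hki; simp [d, Function.update_of_ne hij, hap]
          · simp [d, Function.update_of_ne hkj, Function.update_of_ne hki]
  · rw [natCard_GL (by omega), ← LinGroup.card_units_eq_sub_one] at h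
    have h2 := (hp.dvd_mul.1 h).resolve_left hq
    rw [Subgroup.card_eq_card_quotient_mul_card_subgroup (Subgroup.center (SLn n F)),
      LinGroup.card_center_SL] at h2
    exact (hp.dvd_mul.1 h2).resolve_right fun h3 => hq (h3.trans (Nat.gcd_dvd_right _ _))

/-- A normal subgroup of `PSL_2(F)` whose order is a power of the characteristic is trivial. -/
theorem normal_pGroup_two {r : ℕ} [Fact r.Prime] [CharP F r] (M : Subgroup (PSLn 2 F)) [M.Normal]
    (hM : IsPGroup r ↥M) : M = ⊥ := by
  set U := unitriPSL 2 F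
  have hP : IsPGroup r ↥(M ⊔ U) := hM.to_sup_of_normal_left isPGroup_unitriPSL
  have hle : M ≤ U := by
    have h1 : U.relIndex (M ⊔ U) ∣ U.index := Subgroup.relIndex_dvd_index_of_le (le_sup_right)
    have h1' : U.relIndex (M ⊔ U) ∣ Nat.card ↥(M ⊔ U) := Subgroup.relIndex_dvd_card _ _
    obtain ⟨k, hk⟩ := IsPGroup.iff_card.1 hP
    rw [hk] at h1'
    obtain ⟨m, -, hm⟩ := (Nat.dvd_prime_pow Fact.out).1 h1'
    rcases m with _ | m
    · exact le_sup_left.trans (Subgroup.relIndex_eq_one.1 (by rw [hm, pow_zero]))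
    · exact absurd (((dvd_pow_self r m.succ_ne_zero).trans (hm ▸ dvd_rfl)).trans h1)
        not_dvd_index_unitriPSL
  refine (Subgroup.eq_bot_iff_forall _).2 fun x hx => ?_
  obtain ⟨s, hs, rfl⟩ := mem_unitriPSL.1 (hle hx)
  let w : SLn 2 F := ⟨!![0, 1; -1, 0], by simp [Matrix.det_fin_two]⟩
  obtain ⟨t, ht, hts⟩ := mem_unitriPSL.1 (hle (‹M.Normal›.conj_mem _ hx (proj w)))
  rw [← map_inv, ← map_mul, ← map_mul] at hts
  obtain ⟨c, hc⟩ := proj_eq_proj_iff.1 hts
  have h10 := congrFun (congrFun hc 1) 0
  rw [Matrix.SpecialLinearGroup.coe_mul, Matrix.SpecialLinearGroup.coe_mul,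
    Matrix.SpecialLinearGroup.coe_inv, Matrix.adjugate_fin_two] at h10
  have s00 := hs.1 0
  have s11 := hs.1 1
  have s10 := hs.2 1 0 (by decide)
  have t10 := ht.2 1 0 (by decide)
  simp [w, Matrix.mul_apply, Fin.sum_univ_two, Matrix.vecMul, dotProduct, t10] at h10
  rw [← map_one (proj (n := 2) (F := F))]
  refine congrArg proj (Subtype.ext ?_)
  rw [Matrix.SpecialLinearGroup.coe_one]
  ext a b
  fin_cases a <;> fin_cases b <;> simp [s00, s11, s10]
  simpa [s00, s11] using h10

/-- A normal subgroup of `PSL_n(F)` of order prime to `p` is trivial when `p` divides `|GL_n|`. -/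
theorem psl_normal_coprime (hn : 2 ≤ n) {r : ℕ} [Fact r.Prime] [CharP F r] {p : ℕ} (hp : p.Prime)
    (hpr : p ≠ r) (h : p ∣ Nat.card (GL (Fin n) F)) (M : Subgroup (PSLn n F)) [hM : M.Normal]
    (hco : (Nat.card ↥M).Coprime p) : M = ⊥ := by
  classical
  have hdvd := dvd_card_psl hn hp hpr h
  by_cases hsmall : n = 2 ∧ Fintype.card F < 4
  · obtain ⟨rfl, hlt⟩ := hsmall
    suffices hk : ∃ k, Nat.card ↥M = r ^ k by
      obtain ⟨k, hk⟩ := hk
      exact normal_pGroup_two (r := r) M (IsPGroup.of_card hk)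
    have h1 : Nat.card ↥M ∣ Nat.card (GL (Fin 2) F) := by
      rw [natCard_GL (n := 2) (by omega)]
      exact ((Subgroup.card_subgroup_dvd_card M).trans (Subgroup.card_quotient_dvd_card _)).mul_left _
    rw [LinGroup.card_GL_fintype, Fin.prod_univ_two] at h h1
    have hF2 := Fintype.one_lt_card (α := F)
    have hr : r = Fintype.card F := by
      obtain ⟨k, hr, hk⟩ := FiniteField.card F r
      rcases Nat.lt_or_ge (k : ℕ) 2 with hk1 | hk2
      · rw [hk, show (k : ℕ) = 1 by have := k.pos; omega, pow_one]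
      · have := Nat.pow_le_pow_right hr.pos hk2
        have := Nat.pow_le_pow_left hr.two_le 2
        omega
    have hple : p = 5 - r := by
      rcases (show Fintype.card F = 2 ∨ Fintype.card F = 3 by omega) with hq | hq <;>
        (rw [hr] at hpr ⊢; rw [hq] at h hpr ⊢; norm_num at h hpr ⊢)
      · rcases hp.dvd_mul.1 (show p ∣ 2 * 3 by simpa using h) with h' | h'
        · exact absurd ((Nat.prime_dvd_prime_iff_eq hp Nat.prime_two).1 h') hpr
        · exact (Nat.prime_dvd_prime_iff_eq hp Nat.prime_three).1 h'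
      · rcases hp.dvd_mul.1 (show p ∣ 2 ^ 4 * 3 by simpa using h) with h' | h'
        · exact (Nat.prime_dvd_prime_iff_eq hp Nat.prime_two).1 (hp.dvd_of_dvd_pow h')
        · exact absurd ((Nat.prime_dvd_prime_iff_eq hp Nat.prime_three).1 h') hpr
    rcases (show Fintype.card F = 2 ∨ Fintype.card F = 3 by omega) with hq | hq
    · obtain rfl : r = 2 := hr.trans hq
      obtain rfl : p = 3 := by omega
      rw [hq] at h1
      have h2 : Nat.card ↥M ∣ 2 := hco.dvd_of_dvd_mul_right (by simpa using h1)
      rcases (Nat.dvd_prime Nat.prime_two).1 h2 with h3 | h3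
      exacts [⟨0, h3⟩, ⟨1, h3⟩]
    · obtain rfl : r = 3 := hr.trans hq
      obtain rfl : p = 2 := by omega
      rw [hq] at h1
      have h2 : Nat.card ↥M ∣ 3 := (hco.pow_right 4).dvd_of_dvd_mul_left (by simpa using h1)
      rcases (Nat.dvd_prime Nat.prime_three).1 h2 with h3 | h3
      exacts [⟨0, h3⟩, ⟨1, h3⟩]
  · haveI := LinGroup.isSimpleGroup_PSL_fin (F := F) hn (fun h2 => by
      rw [Nat.card_eq_fintype_card]
      by_contra hlt
      exact hsmall ⟨h2, by omega⟩)
    refine (IsSimpleGroup.eq_bot_or_eq_top_of_normal M hM).resolve_right fun ht => ?_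
    rw [ht, Subgroup.card_top] at hco
    exact hp.ne_one (Nat.eq_one_of_dvd_coprimes hco hdvd dvd_rfl)

/-! ### The group over the fixed field -/

variable (σ : F ≃+* F)

/-- `PSL` over the fixed field inside `PSL`. -/
noncomputable def inclPSL : PSLn n ↥(fixedField σ) →* PSLn n F :=
  QuotientGroup.lift _ (proj.comp (Matrix.SpecialLinearGroup.map (fixedField σ).subtype)) fun s hs => by
    obtain ⟨c, hc1, hc2⟩ := Matrix.SpecialLinearGroup.mem_center_iff.1 hs
    rw [MonoidHom.mem_ker, MonoidHom.comp_apply, proj_apply, QuotientGroup.eq_one_iff,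
      Matrix.SpecialLinearGroup.mem_center_iff]
    refine ⟨(c : F), by exact_mod_cast congrArg Subtype.val hc1, ?_⟩
    show Matrix.scalar (Fin n) (c : F) = (s : Matrix (Fin n) (Fin n) ↥(fixedField σ)).map (fixedField σ).subtype
    rw [← hc2]
    simp [Matrix.diagonal_map]

theorem inclPSL_proj (s : SLn n ↥(fixedField σ)) :
    inclPSL σ (proj s) = proj (Matrix.SpecialLinearGroup.map (fixedField σ).subtype s) := rfl

theorem map_subtype_injective :
    Function.Injective (Matrix.SpecialLinearGroup.map (n := Fin n) (fixedField σ).subtype) := fun _ _ h =>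
  Subtype.ext (Matrix.map_injective (fixedField σ).subtype_injective
    (congrArg (fun x : SLn n F => (x : Matrix (Fin n) (Fin n) F)) h))

theorem inclPSL_injective : Function.Injective (inclPSL (n := n) σ) := by
  rw [injective_iff_map_eq_one]
  intro x hx
  obtain ⟨s, rfl⟩ := proj_surjective x
  rw [inclPSL_proj, proj_apply, QuotientGroup.eq_one_iff] at hx
  rw [proj_apply, QuotientGroup.eq_one_iff, Subgroup.mem_center_iff]
  intro t
  refine map_subtype_injective σ ?_
  rw [map_mul, map_mul]
  exact Subgroup.mem_center_iff.1 hx _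

theorem range_inclPSL : (inclPSL (n := n) σ).range
    = (MonoidHom.eqLocus (slField σ : MulAut (SLn n F)).toMonoidHom (MonoidHom.id (SLn n F))).map proj := by
  ext x
  constructor
  · rintro ⟨y, rfl⟩
    obtain ⟨s, rfl⟩ := proj_surjective y
    refine ⟨_, Subtype.ext ?_, rfl⟩
    ext i j
    exact ((s : Matrix (Fin n) (Fin n) ↥(fixedField σ)) i j).2
  · rintro ⟨s, hs, rfl⟩
    have hij : ∀ i j, (s : Matrix (Fin n) (Fin n) F) i j ∈ fixedField σ := fun i j => by
      show σ _ = _
      conv_rhs => rw [← (show slField σ s = s from hs)]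
      rfl
    let M : Matrix (Fin n) (Fin n) ↥(fixedField σ) := Matrix.of fun i j => ⟨_, hij i j⟩
    have hM : M.map (fixedField σ).subtype = (s : Matrix (Fin n) (Fin n) F) := by ext i j; rfl
    have hdet : M.det = 1 := (fixedField σ).subtype_injective (by
      rw [RingHom.map_det, map_one]; exact (congrArg Matrix.det hM).trans s.2)
    exact ⟨proj ⟨M, hdet⟩, congrArg proj (Subtype.ext hM)⟩

/-- An automorphism fixing the rational root elements is a field automorphism over the fixed field. -/
theorem eq_fieldAut_of_fix (hn : 2 ≤ n) (a : MulAut (PSLn n F))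
    (hfix : ∀ i j, ∀ hij : i ≠ j, ∀ t : F, σ t = t → a (rootElt i j hij t) = rootElt i j hij t) :
    ∃ τ : F ≃+* F, (∀ y : F, σ y = y → τ y = y) ∧ a = fieldAut τ := by
  obtain ⟨g, τ, rfl | ⟨h3, rfl⟩⟩ := normal_form hn a
  · have hg : conj g = (1 : MulAut (PSLn n F)) := conj_eq_one_of_fix_one hn g fun i j hij => by
      have := hfix i j hij 1 (map_one σ)
      rwa [MulAut.mul_apply, fieldAut_rootElt, map_one] at this
    rw [hg, one_mul]
    refine ⟨τ, fun y hy => ?_, rfl⟩
    haveI : Nontrivial (Fin n) := Fin.nontrivial_iff_two_le.mpr hn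
    obtain ⟨i, j, hij⟩ := exists_pair_ne (Fin n)
    have := hfix i j hij y hy
    rw [hg, one_mul, fieldAut_rootElt] at this
    exact rootElt_injective i j hij this
  · obtain ⟨i, j, hij, hne⟩ := graph_not_fix h3 g τ
    exact absurd (hfix i j hij 1 (map_one σ)) hne

/-- The criterion at a standard field automorphism of prime order. -/
theorem core_field_iff (hn : 2 ≤ n) {r : ℕ} [Fact r.Prime] [CharP F r] {p : ℕ} (hp : p.Prime)
    (hpr : p ≠ r) (hσ : orderOf σ = p) (A : Subgroup (MulAut (PSLn n F)))
    (hinn : ∀ k : PSLn n F, MulAut.conj k ∈ A) :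
    Cfsg.pPrimeCore p ↥(A ⊓ Subgroup.centralizer {(fieldAut σ : MulAut (PSLn n F))}) ≠ ⊥ ↔
      Nat.Coprime p (Nat.card ↥(MonoidHom.eqLocus (fieldAut σ : MulAut (PSLn n F)).toMonoidHom
        (MonoidHom.id (PSLn n F)))) := by
  classical
  have hinj := conj_injective_psl (F := F) hn
  haveI : Fintype ↥(fixedField σ) := Fintype.ofFinite _
  haveI : CharP ↥(fixedField σ) r :=
    (RingHom.charP_iff (fixedField σ).subtype (fixedField σ).subtype_injective r).2 inferInstance
  set L := (inclPSL (n := n) σ).range with hL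
  constructor
  · intro hne
    rw [Nat.Prime.coprime_iff_not_dvd hp]
    intro hdvd
    apply hne
    haveI : Fact p.Prime := ⟨hp⟩
    have hGL : p ∣ Nat.card (GL (Fin n) ↥(fixedField σ)) := by
      obtain ⟨z, hz⟩ := exists_prime_orderOf_dvd_card' p hdvd
      let e := fieldCentEquiv hn σ ↥(fixedField σ) (by rw [Nat.card_eq_fintype_card])
      set C := Cfsg.inndiagPSL n F ⊓ Subgroup.centralizer {(fieldAut σ : MulAut (PSLn n F))}
      obtain ⟨s, hs⟩ := proj_surjective (z : PSLn n F)
      have hmem : MulAut.conj (z : PSLn n F) ∈ C := by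
        refine ⟨?_, (LocalBalance.conj_mem_centralizer (A := ⊤) (fun _ => Subgroup.mem_top _) z.2).2⟩
        show _ ∈ Cfsg.inndiagPSL n F
        rw [inndiagPSL_eq_range, ← hs, ← conj_toGL]
        exact ⟨_, rfl⟩
      have hord : orderOf (⟨_, hmem⟩ : ↥C) = p := by
        rw [Subgroup.orderOf_mk, orderOf_injective _ hinj, Subgroup.orderOf_coe, hz]
      have h1 : p ∣ Nat.card (Matrix.ProjGenLinGroup (Fin n) ↥(fixedField σ)) := by
        rw [Nat.card_congr e.toEquiv, ← hord]
        exact orderOf_dvd_natCard _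
      exact h1.trans (Subgroup.card_quotient_dvd_card _)
    refine LocalBalance.core_eq_bot_of_subgroup hinj A hinn _ L ?_ ?_ ?_ ?_
    · intro l hl
      rw [hL, range_inclPSL] at hl
      obtain ⟨s, hs, rfl⟩ := hl
      show fieldAut σ (proj s) = _
      rw [fieldAut_proj]
      exact congrArg proj hs
    · intro k hk l hl
      rw [hL, range_inclPSL] at hl ⊢
      exact LocalBalance.conj_mem_map_fixed (π := proj) (Φ := slField σ) proj_surjective
        (QuotientGroup.ker_mk' _).le (fun s => rfl) hk hl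
    · intro M hM hco
      let e := MonoidHom.ofInjective (inclPSL_injective (n := n) σ)
      haveI : (M.map e.symm.toMonoidHom).Normal := hM.map _ e.symm.surjective
      exact (Subgroup.map_eq_bot_iff_of_injective _ e.symm.injective).1
        (psl_normal_coprime (r := r) hn hp hpr hGL (M.map e.symm.toMonoidHom)
          (by rwa [Subgroup.card_map_of_injective (f := e.symm.toMonoidHom) e.symm.injective]))
    · intro a _ hco hfix
      obtain ⟨τ, hτ, rfl⟩ := eq_fieldAut_of_fix σ hn a fun i j hij t ht => hfix _ (by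
        rw [hL, range_inclPSL]
        exact ⟨_, (slField_transvection σ hij t).trans (by rw [ht]; rfl), rfl⟩)
      have h1 : orderOf τ ∣ p := by
        rw [← hσ]; exact orderOf_dvd_of_pow_eq_one (PSpAut.pow_orderOf_of_fix σ hτ)
      rw [orderOf_injective _ (fieldAut_injective hn)] at hco
      rw [orderOf_eq_one_iff.1 (Nat.eq_one_of_dvd_coprimes hco dvd_rfl h1), map_one]
  · intro hco
    refine LocalBalance.core_ne_bot_of_coprime hinj A hinn _ ?_ hco
    haveI : Nontrivial (Fin n) := Fin.nontrivial_iff_two_le.mpr hn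
    obtain ⟨i, j, hij⟩ := exists_pair_ne (Fin n)
    refine ⟨rootElt i j hij 1, fun h => ?_, by rw [fieldAut_rootElt, map_one]⟩
    refine one_ne_zero (rootElt_injective (F := F) i j hij (h.trans ?_))
    rw [rootElt_eq, Flag.el_zero, map_one]

end Cfsg.Agent.Lib.PSLBalance
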