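import Cfsg.Agent.Lib.PSLBalance.Common
import Cfsg.Agent.Lib.PSLAut.GraphFieldCent
import Cfsg.Agent.Lib.PSUBalance.NoOdd
import Cfsg.Agent.Lib.PSUBalance.Centraliser
import Cfsg.Agent.Lib.Classical.UnitaryTwo
import Cfsg.Agent.Lib.FieldDescent.Unitary

/-!
# Local balance in `PSL_n(F)` at a graph involution

The isometry group of a symmetric or alternating form becomes, over the quadratic extension, the group of
a real form of a hermitian space.
-/

set_option autoImplicit false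
set_option linter.unusedSectionVars false

namespace Cfsg.Agent.Lib.PSLBalance

open scoped MatrixGroups
open Matrix PSLAut FieldDescent

/-- A quotient by central elements of square one inherits the absence of normal subgroups of odd order. -/
theorem no_odd_of_central_two {S L : Type*} [Group S] [Finite S] [Group L] (π : S →* L)
    (hπ : Function.Surjective π) (hker : ∀ z, π z = 1 → z ^ 2 = 1 ∧ z ∈ Subgroup.center S)
    (hS : ∀ N : Subgroup S, N.Normal → ¬ 2 ∣ Nat.card ↥N → N = ⊥)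
    (M : Subgroup L) (hM : M.Normal) (hco : (Nat.card ↥M).Coprime 2) : M = ⊥ := by
  set P := M.comap π with hP
  let πP : ↥P →* ↥M := (π.comp P.subtype).codRestrict M fun x => x.2
  have hπP : Function.Surjective πP := fun y => by
    obtain ⟨x, hx⟩ := hπ y
    exact ⟨⟨x, show π x ∈ M from hx.symm ▸ y.2⟩, Subtype.ext hx⟩
  haveI : Fact (Nat.Prime 2) := ⟨Nat.prime_two⟩
  have hZ : ∀ z : ↥πP.ker, z ^ 2 = 1 := fun z => Subtype.ext (Subtype.ext
    (hker (z.1.1) (congrArg Subtype.val (MonoidHom.mem_ker.1 z.2))).1)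
  have hZp : IsPGroup 2 ↥πP.ker := fun z => ⟨1, by rw [pow_one]; exact hZ z⟩
  obtain ⟨i, hi⟩ := IsPGroup.iff_card.1 hZp
  have hind : πP.ker.index = Nat.card ↥M := by
    rw [Subgroup.index_ker, MonoidHom.range_eq_top.2 hπP, Subgroup.card_top]
  obtain ⟨H, hH⟩ := Subgroup.exists_right_complement'_of_coprime (N := πP.ker)
    (by rw [hi, hind]; exact (hco.symm).pow_left i)
  have hcardH : Nat.card ↥H = Nat.card ↥M := by
    rw [← hind]; exact hH.symm.index_eq_card.symm
  have hodd : Odd (Nat.card ↥M) := Nat.coprime_two_right.1 hco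
  have hchar : ∀ x : ↥P, x ^ Nat.card ↥M = 1 ↔ x ∈ H := by
    intro x
    obtain ⟨⟨z, h⟩, rfl⟩ := hH.2 x
    show ((z : ↥P) * (h : ↥P)) ^ Nat.card ↥M = 1 ↔ (z : ↥P) * (h : ↥P) ∈ H
    have hzc : Commute (z : ↥P) (h : ↥P) := Subtype.ext (Subgroup.mem_center_iff.1
      (hker (z.1.1) (congrArg Subtype.val (MonoidHom.mem_ker.1 z.2))).2 (h.1.1)).symm
    have hhd : (h : ↥P) ^ Nat.card ↥M = 1 := by
      rw [← hcardH, ← Subgroup.coe_pow, pow_card_eq_one', OneMemClass.coe_one]
    obtain ⟨j, hj⟩ := hodd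
    have hzd : (z : ↥P) ^ Nat.card ↥M = z := by
      have hz2 : (z : ↥P) ^ 2 = 1 := by rw [← Subgroup.coe_pow, hZ, OneMemClass.coe_one]
      rw [hj, pow_succ, pow_mul, hz2, one_pow, one_mul]
    rw [hzc.mul_pow, hhd, mul_one, hzd]
    constructor
    · intro hz; rw [hz, one_mul]; exact h.2
    · intro hzh
      have h2' := mul_mem hzh (inv_mem h.2)
      rw [mul_inv_cancel_right] at h2'
      exact Subgroup.mem_bot.1 (hH.disjoint.eq_bot.le ⟨z.2, h2'⟩)
  haveI hn : (H.map P.subtype).Normal := ⟨by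
    rintro _ ⟨x, hx, rfl⟩ s
    have hmem : s * (x : S) * s⁻¹ ∈ P := by
      show π _ ∈ M
      rw [map_mul, map_mul, map_inv]
      exact hM.conj_mem _ x.2 _
    refine ⟨⟨_, hmem⟩, (hchar _).1 (Subtype.ext ?_), rfl⟩
    rw [SubmonoidClass.coe_pow, OneMemClass.coe_one, conj_pow]
    have := congrArg Subtype.val ((hchar x).2 hx)
    rw [SubmonoidClass.coe_pow, OneMemClass.coe_one] at this
    rw [this, mul_one, mul_inv_cancel]⟩
  have hbot := hS _ hn (by
    rw [Subgroup.card_map_of_injective P.subtype_injective, hcardH]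
    exact hodd.not_two_dvd_nat)
  rw [Subgroup.map_eq_bot_iff_of_injective _ P.subtype_injective] at hbot
  rw [hbot, Subgroup.card_bot] at hcardH
  exact Subgroup.eq_bot_of_card_eq _ hcardH.symm

variable {n : ℕ} {F : Type*} [Field F] [Fintype F]

/-- Every automorphism of a finite field of characteristic `r` raises to a power of `r`. -/
theorem exists_apply_eq_pow (r : ℕ) [Fact r.Prime] [CharP F r] (τ : F ≃+* F) :
    ∃ k : ℕ, ∀ x, τ x = x ^ r ^ k := by
  letI : Algebra (ZMod r) F := ZMod.algebra F r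
  let τ₁ : F ≃ₐ[ZMod r] F := AlgEquiv.ofRingEquiv (f := τ) fun y =>
    RingHom.congr_fun (Subsingleton.elim (τ.toRingHom.comp (algebraMap (ZMod r) F)) (algebraMap _ _)) y
  obtain ⟨k, hk⟩ := (FiniteField.bijective_frobeniusAlgEquivOfAlgebraic_pow (ZMod r) F).2 τ₁
  have hpow : ∀ (m : ℕ) (x : F), ((FiniteField.frobeniusAlgEquivOfAlgebraic (ZMod r) F) ^ m) x = x ^ r ^ m := by
    intro m
    induction m with
    | zero => intro x; simp
    | succ m ih =>
      intro x
      rw [pow_succ, AlgEquiv.mul_apply, ih, FiniteField.coe_frobeniusAlgEquivOfAlgebraic]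
      show (x ^ Fintype.card (ZMod r)) ^ r ^ m = _
      rw [ZMod.card, ← pow_mul, ← pow_succ']
  exact ⟨k, fun x => by rw [← hpow]; exact (AlgEquiv.congr_fun hk x).symm⟩

/-- The lift of `graphAut M` to `SL`. -/
noncomputable def slGraph (M : GL (Fin n) F) : MulAut (SLn n F) := slConj M⁻¹ * slInvTrans

theorem slGraph_fixed_iff (M : GL (Fin n) F) (s : SLn n F) :
    slGraph M s = s ↔ (s.1)ᵀ * (M : Matrix (Fin n) (Fin n) F) * s.1 = (M : Matrix (Fin n) (Fin n) F) := by
  set S : Matrix (Fin n) (Fin n) F := s.1 with hS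
  set T : Matrix (Fin n) (Fin n) F := (slGraph M s).1 with hT
  have hST : Sᵀ * (M : Matrix (Fin n) (Fin n) F) * T = (M : Matrix (Fin n) (Fin n) F) := by
    have h1 : T = ((M⁻¹ : GL (Fin n) F) : Matrix (Fin n) (Fin n) F) * ((s⁻¹ : SLn n F).1)ᵀ *
        (M : Matrix (Fin n) (Fin n) F) := by
      show (slConjFun M⁻¹ ((s⁻¹).transpose)).1 = _
      rw [coe_slConjFun, inv_inv]
      rfl
    have h2 : Sᵀ * ((s⁻¹ : SLn n F).1)ᵀ = 1 := by
      rw [← Matrix.transpose_mul, hS, ← Matrix.SpecialLinearGroup.coe_mul, inv_mul_cancel,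
        Matrix.SpecialLinearGroup.coe_one, Matrix.transpose_one]
    calc Sᵀ * (M : Matrix (Fin n) (Fin n) F) * T
        = Sᵀ * ((M : Matrix (Fin n) (Fin n) F) * ((M⁻¹ : GL (Fin n) F) : Matrix (Fin n) (Fin n) F)) *
            ((s⁻¹ : SLn n F).1)ᵀ * (M : Matrix (Fin n) (Fin n) F) := by rw [h1]; simp only [Matrix.mul_assoc]
      _ = _ := by rw [Units.mul_inv, Matrix.mul_one, h2, Matrix.one_mul]
  constructor
  · intro h
    rw [hT, h] at hST
    exact hST
  · intro h
    refine Subtype.ext ?_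
    have hu : IsUnit (Sᵀ * (M : Matrix (Fin n) (Fin n) F)) := by
      rw [Matrix.isUnit_iff_isUnit_det, Matrix.det_mul, Matrix.det_transpose, hS, s.2, one_mul]
      exact (Matrix.isUnit_iff_isUnit_det _).1 M.isUnit
    exact hu.mul_left_cancel (hST.trans h.symm)

theorem graphAut_proj (M : GL (Fin n) F) (s : SLn n F) : graphAut M (proj s) = proj (slGraph M s) := rfl

/-- The special isometries of the form `M`. -/
noncomputable abbrev slIso (M : GL (Fin n) F) : Subgroup (SLn n F) :=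
  MonoidHom.eqLocus (slGraph M).toMonoidHom (MonoidHom.id (SLn n F))

theorem mem_slIso {M : GL (Fin n) F} {s : SLn n F} : s ∈ slIso M ↔
    (s.1)ᵀ * (M : Matrix (Fin n) (Fin n) F) * s.1 = (M : Matrix (Fin n) (Fin n) F) :=
  slGraph_fixed_iff M s

theorem proj_graph_one (hn : 1 ≤ n) {M : GL (Fin n) F} {z : SLn n F} (hz : z ∈ slIso M)
    (h1 : proj z = 1) : z ^ 2 = 1 ∧ z ∈ Subgroup.center (SLn n F) := by
  rw [proj_apply, QuotientGroup.eq_one_iff] at h1
  refine ⟨?_, h1⟩
  obtain ⟨c, -, hc⟩ := Matrix.SpecialLinearGroup.mem_center_iff.1 h1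
  have h2 := mem_slIso.1 hz
  rw [← hc] at h2
  have hcc : c * c = 1 := by
    by_contra hne
    refine GeneralLinearGroup.det_ne_zero M (Matrix.det_eq_zero_of_column_eq_zero ⟨0, hn⟩ fun i => ?_)
    have h3 := congrFun (congrFun h2 i) ⟨0, hn⟩
    simp [Matrix.diagonal_mul, Matrix.mul_diagonal] at h3
    have h4 : (c * c - 1) * (M : Matrix (Fin n) (Fin n) F) i ⟨0, hn⟩ = 0 := by linear_combination h3
    exact (mul_eq_zero.1 h4).resolve_left (sub_ne_zero.2 hne)
  refine Subtype.ext ?_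
  rw [Matrix.SpecialLinearGroup.coe_pow, ← hc, sq, Matrix.SpecialLinearGroup.coe_one, ← map_mul, hcc, map_one]

section Transfer

variable {K : Type*} [Field K] [Fintype K] {q : ℕ}

local notation "V" => (Fin n → K)

theorem map_mulVec_ringEquiv (σ : K ≃+* K) (A : Matrix (Fin n) (Fin n) K) (v : Fin n → K) :
    (fun i => σ ((A *ᵥ v) i)) = A.map σ *ᵥ fun i => σ (v i) :=
  funext fun i => RingHom.map_mulVec σ.toRingHom A v i

theorem herm_mulVec {σ : K ≃+* K} (hσ : ∀ x, σ x = x ^ q) {X : Matrix (Fin n) (Fin n) K} {c : K}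
    (h : (X.map σ)ᵀ * X = c • 1) (u v : V) :
    Cfsg.hermForm n K q (X *ᵥ u) (X *ᵥ v) = c * Cfsg.hermForm n K q u v := by
  have hf : ∀ u v : V, Cfsg.hermForm n K q u v = u ⬝ᵥ fun i => σ (v i) := fun u v => by
    simp [Cfsg.hermForm, dotProduct, hσ]
  rw [hf, hf, map_mulVec_ringEquiv, Matrix.dotProduct_mulVec, ← Matrix.mulVec_transpose,
    Matrix.mulVec_mulVec, h, Matrix.smul_mulVec, Matrix.one_mulVec, smul_dotProduct, smul_eq_mul]

/-- The map of the real form, in the standard coordinates. -/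
def transferJ (σ : K ≃+* K) (E : GL (Fin n) K) (v : Fin n → K) : Fin n → K :=
  (E : Matrix (Fin n) (Fin n) K) *ᵥ fun i => σ ((((E⁻¹ : GL (Fin n) K) : Matrix (Fin n) (Fin n) K) *ᵥ v) i)

/-- A matrix over `F`, in the standard coordinates over `K`. -/
noncomputable def transferSL (ι : F →+* K) (E : GL (Fin n) K) : SLn n F →* SLn n K :=
  (slConj E).toMonoidHom.comp (Matrix.SpecialLinearGroup.map ι)

theorem coe_transferSL (ι : F →+* K) (E : GL (Fin n) K) (s : SLn n F) : (transferSL ι E s).1 =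
    (E : Matrix (Fin n) (Fin n) K) * s.1.map ι * ((E⁻¹ : GL (Fin n) K) : Matrix (Fin n) (Fin n) K) := rfl

theorem transferSL_injective (ι : F →+* K) (E : GL (Fin n) K) :
    Function.Injective (transferSL (n := n) ι E) := fun _ _ h =>
  Subtype.ext (Matrix.map_injective ι.injective (congrArg (fun x : SLn n K => x.1) ((slConj E).injective h)))

/-- The hypotheses linking `M` and the hermitian form. -/
structure Transfers (σ : K ≃+* K) (ι : F →+* K) (M : GL (Fin n) F) (δ η : K) (E : GL (Fin n) K) : Prop where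
  bar : ∀ x : K, σ x = x ^ q
  fixed : ∀ x : K, σ x = x ↔ ∃ y, ι y = x
  invol : ∀ x : K, σ (σ x) = x
  sign : δ = 1 ∨ δ = -1
  eta_ne : η ≠ 0
  eta : σ η = δ * η
  form : (M : Matrix (Fin n) (Fin n) F).map ι = δ • ((M : Matrix (Fin n) (Fin n) F)ᵀ.map ι)
  herm : ((E : Matrix (Fin n) (Fin n) K).map σ)ᵀ * (E : Matrix (Fin n) (Fin n) K)
    = η • ((M : Matrix (Fin n) (Fin n) F)ᵀ.map ι)

variable {σ : K ≃+* K} {ι : F →+* K} {M : GL (Fin n) F} {δ η : K} {E : GL (Fin n) K}
variable (hT : Transfers (q := q) σ ι M δ η E)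
include hT

theorem sigma_ι (x : F) : σ (ι x) = ι x := (hT.fixed _).2 ⟨x, rfl⟩

theorem map_sigma_ι (A : Matrix (Fin n) (Fin n) F) : (A.map ι).map σ = A.map ι := by
  ext i j; exact sigma_ι hT _

theorem herm_transfer (S : Matrix (Fin n) (Fin n) F) :
    (((E : Matrix (Fin n) (Fin n) K) * S.map ι * ((E⁻¹ : GL (Fin n) K) : Matrix (Fin n) (Fin n) K)).map σ)ᵀ *
      ((E : Matrix (Fin n) (Fin n) K) * S.map ι * ((E⁻¹ : GL (Fin n) K) : Matrix (Fin n) (Fin n) K))
    = (((E⁻¹ : GL (Fin n) K) : Matrix (Fin n) (Fin n) K).map σ)ᵀ *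
      (η • (Sᵀ * (M : Matrix (Fin n) (Fin n) F)ᵀ * S).map ι) *
      ((E⁻¹ : GL (Fin n) K) : Matrix (Fin n) (Fin n) K) := by
  rw [Matrix.map_mul, Matrix.map_mul, map_sigma_ι hT, Matrix.transpose_mul, Matrix.transpose_mul,
    Matrix.map_mul, Matrix.map_mul, ← Matrix.transpose_map, ← Matrix.smul_mul, ← Matrix.mul_smul, ← hT.herm]
  simp only [Matrix.mul_assoc, Matrix.transpose_map]

theorem herm_one : (((E⁻¹ : GL (Fin n) K) : Matrix (Fin n) (Fin n) K).map σ)ᵀ *
      (η • (M : Matrix (Fin n) (Fin n) F)ᵀ.map ι) *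
      ((E⁻¹ : GL (Fin n) K) : Matrix (Fin n) (Fin n) K) = 1 := by
  rw [← hT.herm, ← Matrix.mul_assoc, ← Matrix.transpose_mul, ← Matrix.map_mul, Units.mul_inv,
    Matrix.map_one σ (map_zero σ) (map_one σ), Matrix.transpose_one, Matrix.one_mul, Units.mul_inv]

theorem transfer_mem_SU {s : SLn n F} (hs : s ∈ slIso M) : transferSL ι E s ∈ Cfsg.SU n K q := by
  have h1 : (s.1)ᵀ * (M : Matrix (Fin n) (Fin n) F)ᵀ * s.1 = (M : Matrix (Fin n) (Fin n) F)ᵀ := by
    conv_rhs => rw [← mem_slIso.1 hs]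
    rw [Matrix.transpose_mul, Matrix.transpose_mul, Matrix.transpose_transpose, Matrix.mul_assoc]
  refine (mem_GU_iff σ hT.bar (Matrix.SpecialLinearGroup.toGL (transferSL ι E s))).2 ?_
  show ((transferSL ι E s).1.map σ)ᵀ * (transferSL ι E s).1 = 1
  rw [coe_transferSL, herm_transfer hT, h1, herm_one hT]

/-- The transfer of the isometry group to `SU`. -/
noncomputable def transferSU : ↥(slIso M) →* PSUAut.SUType n K q :=
  ((transferSL ι E).comp (slIso M).subtype).codRestrict _ fun s => transfer_mem_SU hT s.2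

theorem transferSU_injective : Function.Injective (transferSU hT) := fun _ _ h =>
  Subtype.ext (transferSL_injective ι E (congrArg Subtype.val h))

theorem act_transferSU (s : ↥(slIso M)) (v : V) : PSUAut.act (transferSU hT s) v =
    (E : Matrix (Fin n) (Fin n) K) *ᵥ (s.1.1.map ι *ᵥ (((E⁻¹ : GL (Fin n) K) : Matrix (Fin n) (Fin n) K) *ᵥ v)) := by
  rw [PSUAut.act, Classical.suLinear_apply]
  show (transferSL ι E s.1).1 *ᵥ v = _
  rw [coe_transferSL, ← Matrix.mulVec_mulVec, ← Matrix.mulVec_mulVec]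

theorem isRealForm_transferJ : PSUBalance.IsRealForm (q := q) (transferJ σ E) δ := by
  have hinv : ∀ u : V, ((E⁻¹ : GL (Fin n) K) : Matrix (Fin n) (Fin n) K) *ᵥ
      ((E : Matrix (Fin n) (Fin n) K) *ᵥ u) = u := fun u => by
    rw [Matrix.mulVec_mulVec, Units.inv_mul, Matrix.one_mulVec]
  refine ⟨fun u v => ?_, fun a v => ?_, fun v => ?_, fun u v => ?_, hT.sign⟩
  · simp only [transferJ, Matrix.mulVec_add, Pi.add_apply, map_add]
    rw [← Matrix.mulVec_add]
    rfl
  · simp only [transferJ, Matrix.mulVec_smul, Pi.smul_apply, smul_eq_mul, map_mul]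
    rw [← Matrix.mulVec_smul, hT.bar a]
    rfl
  · simp only [transferJ, hinv, hT.invol]
    rw [Matrix.mulVec_mulVec, Units.mul_inv, Matrix.one_mulVec]
  · set X := (E : Matrix (Fin n) (Fin n) K) * ((E⁻¹ : GL (Fin n) K) : Matrix (Fin n) (Fin n) K).map σ with hX
    have hJX : ∀ v : V, transferJ σ E v = X *ᵥ fun i => σ (v i) := fun v => by
      rw [transferJ, map_mulVec_ringEquiv, Matrix.mulVec_mulVec]
    have hσσ : ∀ A : Matrix (Fin n) (Fin n) K, (A.map σ).map σ = A := fun A => by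
      ext i j; exact hT.invol _
    have h0 : η • (M : Matrix (Fin n) (Fin n) F)ᵀ.map ι
        = δ • ((E : Matrix (Fin n) (Fin n) K)ᵀ * (E : Matrix (Fin n) (Fin n) K).map σ) := by
      have h := congrArg (fun A : Matrix (Fin n) (Fin n) K => A.map σ) hT.herm
      simp only [Matrix.map_mul, ← Matrix.transpose_map, hσσ] at h
      rw [h, Matrix.map_smul' σ _ _ (map_mul σ), hT.eta, map_sigma_ι hT, smul_smul]
      rcases hT.sign with hd | hd <;> simp [hd]
    have hXX : (X.map σ)ᵀ * X = δ • 1 := by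
      have hE : (E : Matrix (Fin n) (Fin n) K).map σ * ((E⁻¹ : GL (Fin n) K) : Matrix (Fin n) (Fin n) K).map σ = 1 := by
        rw [← Matrix.map_mul, Units.mul_inv, Matrix.map_one σ (map_zero σ) (map_one σ)]
      calc (X.map σ)ᵀ * X
          = (((E⁻¹ : GL (Fin n) K) : Matrix (Fin n) (Fin n) K))ᵀ * (((E : Matrix (Fin n) (Fin n) K).map σ)ᵀ *
              (E : Matrix (Fin n) (Fin n) K)) * ((E⁻¹ : GL (Fin n) K) : Matrix (Fin n) (Fin n) K).map σ := by
            rw [hX, Matrix.map_mul, hσσ, Matrix.transpose_mul]; simp only [Matrix.mul_assoc]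
        _ = δ • ((((E⁻¹ : GL (Fin n) K) : Matrix (Fin n) (Fin n) K)ᵀ * (E : Matrix (Fin n) (Fin n) K)ᵀ) *
              ((E : Matrix (Fin n) (Fin n) K).map σ * ((E⁻¹ : GL (Fin n) K) : Matrix (Fin n) (Fin n) K).map σ)) := by
            rw [hT.herm, h0, Matrix.mul_smul, Matrix.smul_mul]; simp only [Matrix.mul_assoc]
        _ = δ • 1 := by rw [hE, ← Matrix.transpose_mul, Units.mul_inv, Matrix.transpose_one, Matrix.one_mul]
    rw [hJX, hJX, herm_mulVec hT.bar hXX, ← hT.bar]
    exact congrArg _ (PSUAut.herm_sv σ u v)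

theorem inv_mulVec_cancel (u : V) : ((E⁻¹ : GL (Fin n) K) : Matrix (Fin n) (Fin n) K) *ᵥ
    ((E : Matrix (Fin n) (Fin n) K) *ᵥ u) = u := by
  rw [Matrix.mulVec_mulVec, Units.inv_mul, Matrix.one_mulVec]

theorem transferSU_mem (s : ↥(slIso M)) : transferSU hT s ∈ PSUBalance.sj q (transferJ σ E) := by
  intro v
  rw [act_transferSU, act_transferSU]
  simp only [transferJ, inv_mulVec_cancel hT]
  rw [map_mulVec_ringEquiv σ (s.1.1.map ι), map_sigma_ι hT]

theorem transferSU_surj {t : PSUAut.SUType n K q} (ht : t ∈ PSUBalance.sj q (transferJ σ E)) :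
    ∃ s, transferSU hT s = t := by
  set T : Matrix (Fin n) (Fin n) K :=
    ((E⁻¹ : GL (Fin n) K) : Matrix (Fin n) (Fin n) K) * t.1.1 * (E : Matrix (Fin n) (Fin n) K) with hTdef
  have hcomm : ∀ u : V, (fun i => σ ((T *ᵥ u) i)) = T *ᵥ fun i => σ (u i) := by
    intro u
    have h := ht ((E : Matrix (Fin n) (Fin n) K) *ᵥ u)
    simp only [transferJ, inv_mulVec_cancel hT, PSUAut.act, Classical.suLinear_apply] at h
    have h2 := congrArg (fun w => ((E⁻¹ : GL (Fin n) K) : Matrix (Fin n) (Fin n) K) *ᵥ w) h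
    simp only [inv_mulVec_cancel hT] at h2
    rw [hTdef]
    simp only [← Matrix.mulVec_mulVec]
    exact h2.symm
  have hent : ∀ i j, ∃ y, ι y = T i j := fun i j => (hT.fixed _).1 (by
    have h := congrFun (hcomm (Pi.single j 1)) i
    have hs : (fun k => σ ((Pi.single j (1 : K) : V) k)) = Pi.single j 1 := by
      funext k; rcases eq_or_ne k j with rfl | hk <;> simp [*]
    simp only [hs, Matrix.mulVec_single_one] at h
    exact h)
  choose S hS using hent
  have hST : (Matrix.of S).map ι = T := by ext i j; exact hS i j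
  have hdet : (Matrix.of S).det = 1 := ι.injective (by
    rw [RingHom.map_det, map_one]
    refine (congrArg Matrix.det hST).trans ?_
    rw [hTdef, Matrix.det_units_conj' E t.1.1]
    exact t.1.2)
  let s : SLn n F := ⟨Matrix.of S, hdet⟩
  have hback : (E : Matrix (Fin n) (Fin n) K) * s.1.map ι * ((E⁻¹ : GL (Fin n) K) : Matrix (Fin n) (Fin n) K)
      = t.1.1 := by
    show (E : Matrix (Fin n) (Fin n) K) * (Matrix.of S).map ι * _ = _
    rw [hST, hTdef]
    simp [Matrix.mul_assoc]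
  have hmem : s ∈ slIso M := by
    have h1 := (mem_GU_iff σ hT.bar (Matrix.SpecialLinearGroup.toGL t.1)).1 t.2
    change (t.1.1.map σ)ᵀ * t.1.1 = 1 at h1
    rw [← hback, herm_transfer hT] at h1
    conv_rhs at h1 => rw [← herm_one hT]
    have hu : IsUnit ((((E⁻¹ : GL (Fin n) K) : Matrix (Fin n) (Fin n) K).map σ)ᵀ) := by
      rw [Matrix.isUnit_iff_isUnit_det, Matrix.det_transpose]
      have := ((Matrix.isUnit_iff_isUnit_det _).1 (E⁻¹).isUnit).map σ.toRingHom
      rwa [RingHom.map_det] at this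
    have h2 := hu.mul_left_cancel ((E⁻¹).isUnit.mul_right_cancel h1)
    have h3 := Matrix.map_injective ι.injective (smul_right_injective (Matrix (Fin n) (Fin n) K) hT.eta_ne h2)
    have h4 := congrArg Matrix.transpose h3
    rw [Matrix.transpose_mul, Matrix.transpose_mul, Matrix.transpose_transpose, Matrix.transpose_transpose,
      ← Matrix.mul_assoc] at h4
    exact mem_slIso.2 h4
  refine ⟨⟨s, hmem⟩, Subtype.ext (Subtype.ext ?_)⟩
  show (transferSL ι E s).1 = _
  rw [coe_transferSL, hback]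

/-- The isometry group has no normal subgroups of odd order. -/
theorem slIso_normal_odd (hK : Fintype.card K = q ^ 2) (hn : 3 ≤ n) (h2 : (2 : K) ≠ 0)
    (N : Subgroup ↥(slIso M)) (hN : N.Normal) (hodd : ¬ 2 ∣ Nat.card ↥N) : N = ⊥ := by
  let f : ↥(slIso M) →* ↥(PSUBalance.sj (n := n) q (transferJ σ E)) :=
    (transferSU hT).codRestrict _ (transferSU_mem hT)
  have hf : Function.Injective f := fun a b h => transferSU_injective hT (congrArg Subtype.val h)
  have hfs : Function.Surjective f := fun t => by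
    obtain ⟨s, hs⟩ := transferSU_surj hT t.2
    exact ⟨s, Subtype.ext hs⟩
  haveI := hN.map f hfs
  exact (Subgroup.map_eq_bot_iff_of_injective _ hf).1
    ((isRealForm_transferJ hT).sj_normal_odd hK hn h2 (N.map f)
      (by rwa [Subgroup.card_map_of_injective hf]))

/-- A semilinear map commuting with the isometry group is a scalar. -/
theorem scalar_of_fix (hK : Fintype.card K = q ^ 2) (hn : 3 ≤ n) (h2 : (2 : K) ≠ 0) {r : ℕ} [Fact r.Prime]
    [CharP F r] [CharP K r] (g : GL (Fin n) F) (τ : F ≃+* F)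
    (hfix : ∀ s ∈ slIso M, (conj g * fieldAut τ : MulAut (PSLn n F)) (proj s) = proj s) :
    τ = 1 ∧ ∃ c : Fˣ, GeneralLinearGroup.scalar (Fin n) c = g := by
  have hJ := isRealForm_transferJ hT
  obtain ⟨k, hk⟩ := exists_apply_eq_pow r τ
  let τ' : K ≃+* K := iterateFrobeniusEquiv K r k
  have hτ' : ∀ x : F, τ' (ι x) = ι (τ x) := fun x => by
    rw [hk, map_pow, iterateFrobeniusEquiv_def]
  set G : Matrix (Fin n) (Fin n) F := g.1 with hG
  have hGinj : ∀ u : V, G.map ι *ᵥ u = 0 → u = 0 := fun u hu => by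
    have h := congrArg (fun w => ((g⁻¹ : GL (Fin n) F).1).map ι *ᵥ w) hu
    simp only [Matrix.mulVec_mulVec, ← Matrix.map_mul, hG, Units.inv_mul, Matrix.mulVec_zero,
      Matrix.map_one ι (map_zero ι) (map_one ι), Matrix.one_mulVec] at h
    exact h
  let S : V → V := fun v => (E : Matrix (Fin n) (Fin n) K) *ᵥ (G.map ι *ᵥ
    fun i => τ' ((((E⁻¹ : GL (Fin n) K) : Matrix (Fin n) (Fin n) K) *ᵥ v) i))
  have hSa : ∀ u v, S (u + v) = S u + S v := fun u v => by
    simp only [S, Matrix.mulVec_add, Pi.add_apply, map_add]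
    rw [← Matrix.mulVec_add, ← Matrix.mulVec_add]
    rfl
  have hSs : ∀ (a : K) v, S (a • v) = τ' a • S v := fun a v => by
    simp only [S, Matrix.mulVec_smul, Pi.smul_apply, smul_eq_mul, map_mul]
    rw [← Matrix.mulVec_smul, ← Matrix.mulVec_smul]
    rfl
  have hSi : ∀ v, S v = 0 → v = 0 := fun v hv => by
    have h1 := congrArg (fun w => ((E⁻¹ : GL (Fin n) K) : Matrix (Fin n) (Fin n) K) *ᵥ w) hv
    simp only [S, inv_mulVec_cancel hT, Matrix.mulVec_zero] at h1
    have h3 : ((E⁻¹ : GL (Fin n) K) : Matrix (Fin n) (Fin n) K) *ᵥ v = 0 :=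
      funext fun i => τ'.injective ((congrFun (hGinj _ h1) i).trans (map_zero τ').symm)
    have h4 := congrArg (fun w => (E : Matrix (Fin n) (Fin n) K) *ᵥ w) h3
    simpa [Matrix.mulVec_mulVec] using h4
  have hA : ∀ (e w : V) (c : K), hJ.Iso hK e → Cfsg.hermForm n K q w e = 0 → transferJ σ E w = δ • w →
      c ^ q = δ * c → c + c ^ q + Cfsg.hermForm n K q w w = 0 →
      ∀ x, S (PSUAut.act (PSUAut.eich e w c : PSUAut.SUType n K q) x)
        = PSUAut.act (PSUAut.eich e w c : PSUAut.SUType n K q) (S x) := by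
    intro e w c he hwe hw hcδ hc x
    obtain ⟨s, hs⟩ := transferSU_surj hT (hJ.eich_mem_sj hK he.1 he.2.2 hwe hw hcδ hc)
    have hpow : s ^ r ^ 2 = 1 := transferSU_injective hT (by
      rw [map_pow, hs, map_one, PSUAut.eich_pow (p := r) hK he.2.2 hwe hc])
    set u := (slConj g * slField τ : MulAut (SLn n F)) s.1 with hu
    obtain ⟨a, ha⟩ := proj_eq_proj_iff.1 (show proj u = proj s.1 from hfix s.1 s.2)
    have ha1 : a = 1 := by
      have hupow : u ^ r ^ 2 = 1 := by
        rw [hu, ← map_pow, ← SubmonoidClass.coe_pow, hpow, OneMemClass.coe_one, map_one]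
      have h5 := congrArg (fun A : Matrix (Fin n) (Fin n) F => A ^ r ^ 2) ha
      simp only [smul_pow, ← Matrix.SpecialLinearGroup.coe_pow, hupow, ← SubmonoidClass.coe_pow, hpow,
        OneMemClass.coe_one, Matrix.SpecialLinearGroup.coe_one] at h5
      have h6 : a ^ r ^ 2 = 1 := by
        have := congrFun (congrFun h5 ⟨0, by omega⟩) ⟨0, by omega⟩
        simpa using this.symm
      refine iterateFrobenius_inj F r 2 ?_
      rw [iterateFrobenius_def, iterateFrobenius_def, h6, one_pow]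
    rw [ha1, one_smul] at ha
    have hcom : G * s.1.1.map τ = s.1.1 * G := by
      conv_rhs => rw [ha, hu]
      show G * s.1.1.map τ = G * s.1.1.map τ * ((g⁻¹ : GL (Fin n) F) : Matrix (Fin n) (Fin n) F) * G
      rw [hG, Units.inv_mul_cancel_right]
    have hmap : (s.1.1.map ι).map τ' = (s.1.1.map τ).map ι := by
      ext i j; exact hτ' _
    simp only [S, ← hs, act_transferSU, inv_mulVec_cancel hT]
    rw [map_mulVec_ringEquiv τ' (s.1.1.map ι), hmap]
    congr 1
    rw [Matrix.mulVec_mulVec, Matrix.mulVec_mulVec, ← Matrix.map_mul, hcom, Matrix.map_mul]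
  obtain ⟨lam, hcase⟩ := hJ.scalar_of_commute' hK hn h2 S τ' hSa hSs hSi hA
  have hτ1 : τ = 1 := RingEquiv.ext fun x => ι.injective (by
    rw [← hτ']
    rcases hcase with ⟨h1, -⟩ | ⟨h1, -⟩
    · rw [h1]; rfl
    · rw [h1, ← hT.bar, sigma_ι hT]; rfl)
  refine ⟨hτ1, ?_⟩
  have hw : ∀ w : Fin n → F, (fun i => ι ((G *ᵥ w) i)) = lam • fun i => ι (w i) := by
    intro w
    set v := (E : Matrix (Fin n) (Fin n) K) *ᵥ fun i => ι (w i) with hv
    have hJv : transferJ σ E v = v := by
      simp only [transferJ, hv, inv_mulVec_cancel hT, sigma_ι hT]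
    have hSv : S v = lam • v := by
      rcases hcase with ⟨-, h⟩ | ⟨-, h⟩
      · exact h v
      · rw [h v, hJv]
    simp only [S, hv, inv_mulVec_cancel hT, hτ', hτ1, ← Matrix.mulVec_smul] at hSv
    have h7 := congrArg (fun w => ((E⁻¹ : GL (Fin n) K) : Matrix (Fin n) (Fin n) K) *ᵥ w) hSv
    simp only [inv_mulVec_cancel hT] at h7
    rw [← h7]
    funext i
    exact RingHom.map_mulVec ι G w i
  set c := G ⟨0, by omega⟩ ⟨0, by omega⟩ with hc
  have hlam : lam = ι c := by
    have := congrFun (hw (Pi.single ⟨0, by omega⟩ 1)) ⟨0, by omega⟩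
    simpa [Matrix.mulVec_single_one, hc] using this.symm
  have hGw : ∀ w, G *ᵥ w = c • w := fun w => funext fun i => ι.injective (by
    have := congrFun (hw w) i
    rw [hlam] at this
    simpa using this)
  have hc0 : c ≠ 0 := fun h0 => GeneralLinearGroup.det_ne_zero g
    (Matrix.det_eq_zero_of_column_eq_zero ⟨0, by omega⟩ fun i => by
      have := congrFun (hGw (Pi.single ⟨0, by omega⟩ 1)) i
      simpa [h0, Matrix.mulVec_single_one] using this)
  refine ⟨Units.mk0 c hc0, Units.ext (Matrix.ext_iff_mulVec.2 fun v => ?_)⟩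
  show _ = G *ᵥ v
  rw [hGw]
  funext i
  simp [GeneralLinearGroup.coe_scalar, Matrix.mulVec_diagonal]

end Transfer

/-- The quadratic extension together with the change of coordinates. -/
theorem exists_transfers (r : ℕ) [Fact r.Prime] [CharP F r] (h2 : (2 : F) ≠ 0) (M : GL (Fin n) F)
    (hM : (M : Matrix (Fin n) (Fin n) F)ᵀ = (M : Matrix (Fin n) (Fin n) F) ∨
      (M : Matrix (Fin n) (Fin n) F)ᵀ = -(M : Matrix (Fin n) (Fin n) F)) :
    ∃ (K : Type) (_ : Field K) (_ : Fintype K) (_ : CharP K r) (q : ℕ) (σ : K ≃+* K) (ι : F →+* K) (δ η : K)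
      (E : GL (Fin n) K), Fintype.card K = q ^ 2 ∧ (2 : K) ≠ 0 ∧ Transfers (q := q) σ ι M δ η E := by
  classical
  obtain ⟨f, hr, hf⟩ := FiniteField.card F r
  let K := GaloisField r (2 * f)
  haveI : Fintype K := Fintype.ofFinite _
  set q := Fintype.card F with hq
  have hK : Fintype.card K = q ^ 2 := by
    rw [← Nat.card_eq_fintype_card, GaloisField.card r (2 * f) (by have := f.pos; omega), hf, ← pow_mul,
      mul_comm]
  obtain ⟨ι, hι⟩ := Classical.exists_fixedField_equiv hK (K := F) rfl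
  have h2K : (2 : K) ≠ 0 := by
    rw [← map_ofNat ι 2]
    exact (map_ne_zero ι).2 h2
  let σ := barEquiv hK
  have hbar : ∀ x, σ x = x ^ q := barEquiv_apply hK
  have hinv : ∀ x, σ (σ x) = x := fun x => by rw [hbar, hbar]; exact Forms.pow_q_pow_q hK x
  obtain ⟨ξ, hξ0, hξ⟩ := PSUAut.exists_skew' hK
  obtain ⟨d, η, hd, hη0, hη, hform⟩ : ∃ d η : K, (d = 1 ∨ d = -1) ∧ η ≠ 0 ∧ σ η = d * η ∧
      (M : Matrix (Fin n) (Fin n) F).map ι = d • ((M : Matrix (Fin n) (Fin n) F)ᵀ.map ι) := by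
    rcases hM with h | h
    · exact ⟨1, 1, Or.inl rfl, one_ne_zero, by rw [map_one, one_mul], by rw [h, one_smul]⟩
    · refine ⟨-1, ξ, Or.inr rfl, hξ0, ?_, ?_⟩
      · rw [hbar, neg_one_mul]
        exact eq_neg_of_add_eq_zero_right hξ
      · rw [h]; ext i j; simp only [Matrix.map_apply, Matrix.smul_apply, Matrix.neg_apply, map_neg, smul_eq_mul]; ring
  let A : GL (Fin n) K := GeneralLinearGroup.scalar (Fin n) (Units.mk0 η hη0) * GeneralLinearGroup.map ι M
  have hA : (A : Matrix (Fin n) (Fin n) K) = η • (M : Matrix (Fin n) (Fin n) F).map ι := by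
    ext i j
    simp [A, GeneralLinearGroup.coe_scalar, Matrix.diagonal_mul]
  have hAherm : ((A : Matrix (Fin n) (Fin n) K).map σ)ᵀ = (A : Matrix (Fin n) (Fin n) K) := by
    rw [hA]
    ext i j
    have h1 := congrFun (congrFun hform i) j
    simp only [Matrix.map_apply, Matrix.smul_apply, Matrix.transpose_apply, smul_eq_mul, map_mul] at h1 ⊢
    rw [hη, show σ (ι _) = ι _ from (hbar _).trans ((hι _).2 ⟨_, rfl⟩), h1]
    ring
  obtain ⟨h, hh⟩ := exists_mul_map_transpose σ (orderOf_barEquiv hK) A hAherm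
  refine ⟨K, inferInstance, inferInstance, inferInstance, q, σ, ι, d, η, glInvTrans h⁻¹, hK, h2K,
    ⟨hbar, fun x => by rw [hbar]; exact hι x, hinv, hd, hη0, hη, hform, ?_⟩⟩
  rw [coe_glInvTrans, inv_inv, Matrix.transpose_map, Matrix.transpose_transpose]
  have h3 := congrArg Matrix.transpose hh
  rw [Matrix.transpose_mul, Matrix.transpose_transpose, hA, Matrix.transpose_smul] at h3
  exact h3.symm

/-- At a graph involution the core is trivial. -/
theorem core_graph_eq_bot (hn : 3 ≤ n) {r : ℕ} [Fact r.Prime] [CharP F r] (h2 : (2 : F) ≠ 0)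
    (M : GL (Fin n) F) (hM : (M : Matrix (Fin n) (Fin n) F)ᵀ = (M : Matrix (Fin n) (Fin n) F) ∨
      (M : Matrix (Fin n) (Fin n) F)ᵀ = -(M : Matrix (Fin n) (Fin n) F))
    (A : Subgroup (MulAut (PSLn n F))) (hinn : ∀ k : PSLn n F, MulAut.conj k ∈ A) :
    Cfsg.pPrimeCore 2 ↥(A ⊓ Subgroup.centralizer {(graphAut M : MulAut (PSLn n F))}) = ⊥ := by
  classical
  obtain ⟨K, _, _, _, q, σ, ι, δ, η, E, hK, h2K, hT⟩ := exists_transfers r h2 M hM
  refine LocalBalance.core_eq_bot_of_subgroup (conj_injective_psl (by omega)) A hinn _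
    ((slIso M).map proj) ?_ ?_ ?_ ?_
  · rintro _ ⟨s, hs, rfl⟩
    rw [graphAut_proj]
    exact congrArg proj hs
  · intro k hk l hl
    exact LocalBalance.conj_mem_map_fixed (π := proj) (Φ := slGraph M) proj_surjective
      (QuotientGroup.ker_mk' _).le (fun s => rfl) hk hl
  · let π : ↥(slIso M) →* ↥((slIso M).map proj) :=
      (proj.comp (slIso M).subtype).codRestrict _ fun s => ⟨s, s.2, rfl⟩
    have hπ : Function.Surjective π := by rintro ⟨_, s, hs, rfl⟩; exact ⟨⟨s, hs⟩, rfl⟩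
    refine no_odd_of_central_two π hπ (fun z hz => ?_) (slIso_normal_odd hT hK hn h2K)
    obtain ⟨h1, hc⟩ := proj_graph_one (by omega) z.2 (congrArg Subtype.val hz)
    exact ⟨Subtype.ext h1, Subgroup.mem_center_iff.2 fun s =>
      Subtype.ext (Subgroup.mem_center_iff.1 hc _)⟩
  · intro a _ hco hfix
    obtain ⟨g, τ, rfl⟩ := form_of_odd (by omega) a (Nat.coprime_two_right.1 hco)
    obtain ⟨rfl, c, rfl⟩ := scalar_of_fix hT hK hn h2K (r := r) g τ fun s hs => hfix _ ⟨s, hs, rfl⟩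
    rw [map_one, mul_one, PSLAut.conj_eq_one_iff, mem_center_iff_scalar]
    exact ⟨c, rfl⟩

end Cfsg.Agent.Lib.PSLBalance
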