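import Cfsg.Agent.Lib.PSLBalance.Common
import Cfsg.Agent.Lib.PSLAut.GraphFieldCent
import Cfsg.Agent.Lib.PSUBalance.OddCase
import Cfsg.Agent.Lib.PSUAut.Structure

/-!
# Local balance in `PSL_n(F)` at a graph-field involution
-/

set_option autoImplicit false
set_option linter.unusedSectionVars false

namespace Cfsg.Agent.Lib.PSLBalance

open scoped MatrixGroups
open Matrix PSLAut FieldDescent

variable {n : ℕ} {F : Type*} [Field F] [Fintype F] {q : ℕ}

/-- `PSU` inside `PSL` over the same field. -/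
noncomputable def psuToPSL (hF : Fintype.card F = q ^ 2) (hn : 1 ≤ n) : Cfsg.PSU n F q →* PSLn n F :=
  QuotientGroup.lift _ (proj.comp (Cfsg.SU n F q).subtype) fun s hs => by
    rw [MonoidHom.mem_ker, MonoidHom.comp_apply, proj_apply, QuotientGroup.eq_one_iff,
      Matrix.SpecialLinearGroup.mem_center_iff]
    have hd := Classical.center_SU_scalar hF s hs ⟨0, hn⟩
    refine ⟨s.1.1 ⟨0, hn⟩ ⟨0, hn⟩, ?_, hd.symm⟩
    have h1 := s.1.2
    rw [hd, Matrix.det_diagonal, Finset.prod_const, Finset.card_univ] at h1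
    exact h1

theorem psuToPSL_proj (hF : Fintype.card F = q ^ 2) (hn : 1 ≤ n) (s : PSUAut.SUType n F q) :
    psuToPSL hF hn (PSUAut.proj s) = proj s.1 := rfl

theorem psuToPSL_injective (hF : Fintype.card F = q ^ 2) (hn : 1 ≤ n) :
    Function.Injective (psuToPSL (n := n) hF hn) := by
  rw [injective_iff_map_eq_one]
  intro x hx
  obtain ⟨s, rfl⟩ := PSUAut.proj_surjective x
  rw [psuToPSL_proj, proj_apply, QuotientGroup.eq_one_iff] at hx
  rw [PSUAut.proj_apply, QuotientGroup.eq_one_iff, Subgroup.mem_center_iff]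
  exact fun t => Subtype.ext (Subgroup.mem_center_iff.1 hx t.1)

theorem fixed_iff_mem_SU (σ : F ≃+* F) (hQ : ∀ x, σ x = x ^ q) (s : SLn n F) :
    (slField σ * slInvTrans : MulAut (SLn n F)) s = s ↔ s ∈ Cfsg.SU n F q := by
  set S : Matrix (Fin n) (Fin n) F := s.1 with hS
  have hmem : s ∈ Cfsg.SU n F q ↔ (S.map σ)ᵀ * S = 1 :=
    mem_GU_iff σ hQ (Matrix.SpecialLinearGroup.toGL s)
  rw [hmem]
  set T : Matrix (Fin n) (Fin n) F := (((slField σ * slInvTrans : MulAut (SLn n F)) s : SLn n F) : Matrix (Fin n) (Fin n) F) with hT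
  have hTS : (S.map σ)ᵀ * T = 1 := by
    show (S.map σ)ᵀ * ((((s⁻¹ : SLn n F) : Matrix (Fin n) (Fin n) F)ᵀ).map σ) = 1
    rw [Matrix.transpose_map, ← Matrix.transpose_mul]
    have h1 : ((s⁻¹ : SLn n F) : Matrix (Fin n) (Fin n) F) * S = 1 := by
      rw [hS, ← Matrix.SpecialLinearGroup.coe_mul, inv_mul_cancel, Matrix.SpecialLinearGroup.coe_one]
    rw [← Matrix.map_mul, h1, Matrix.map_one σ (map_zero σ) (map_one σ), Matrix.transpose_one]
  constructor
  · intro h
    rw [hT, h] at hTS
    exact hTS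
  · intro h
    refine Subtype.ext ?_
    exact (inv_eq_right_inv hTS).symm.trans (inv_eq_right_inv h)
where
  inv_eq_right_inv {A B : Matrix (Fin n) (Fin n) F} (h : A * B = 1) : A⁻¹ = B := Matrix.inv_eq_right_inv h

/-- At a standard graph-field involution the core is trivial. -/
theorem core_graphField_eq_bot (hn : 3 ≤ n) {r : ℕ} [Fact r.Prime] [CharP F r] (h2 : (2 : F) ≠ 0)
    (σ : F ≃+* F) (hσ : orderOf σ = 2) (A : Subgroup (MulAut (PSLn n F)))
    (hinn : ∀ k : PSLn n F, MulAut.conj k ∈ A) :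
    Cfsg.pPrimeCore 2 ↥(A ⊓ Subgroup.centralizer {(fieldAut σ * invTrans : MulAut (PSLn n F))}) = ⊥ := by
  classical
  set q₀ := Nat.card ↥(fixedField σ) with hq₀
  have hQ : ∀ x, σ x = x ^ q₀ := apply_eq_pow_of_orderOf_two σ hσ
  have hF : Fintype.card F = q₀ ^ 2 := by
    rw [← Nat.card_eq_fintype_card, card_eq_pow σ, hσ]
  have hodd : ¬ 2 ∣ q₀ := fun hd => h2 (by
    obtain ⟨f, hr, hf⟩ := FiniteField.card F r
    have hr2 : 2 ∣ r := Nat.prime_two.dvd_of_dvd_pow (show 2 ∣ r ^ (f : ℕ) by
      rw [← hf, hF]; exact dvd_pow hd two_ne_zero)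
    have hr' := (Nat.prime_dvd_prime_iff_eq Nat.prime_two hr).1 hr2
    subst hr'
    exact_mod_cast CharP.cast_eq_zero F 2)
  set j := psuToPSL (n := n) hF (by omega) with hj
  haveI hsimple : IsSimpleGroup (Cfsg.PSU n F q₀) :=
    PSUBalance.isSimpleGroup_psu_of_le hF hn fun h => hodd (by rw [h.2])
  have hrange : j.range = (MonoidHom.eqLocus (slField σ * slInvTrans : MulAut (SLn n F)).toMonoidHom
      (MonoidHom.id (SLn n F))).map proj := by
    ext x
    constructor
    · rintro ⟨y, rfl⟩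
      obtain ⟨s, rfl⟩ := PSUAut.proj_surjective y
      exact ⟨s.1, (fixed_iff_mem_SU σ hQ s.1).2 s.2, rfl⟩
    · rintro ⟨s, hs, rfl⟩
      exact ⟨PSUAut.proj ⟨s, (fixed_iff_mem_SU σ hQ s).1 hs⟩, rfl⟩
  refine LocalBalance.core_eq_bot_of_subgroup (conj_injective_psl (by omega)) A hinn _ j.range ?_ ?_ ?_ ?_
  · rintro l hl
    rw [hrange] at hl
    obtain ⟨s, hs, rfl⟩ := hl
    exact congrArg proj hs
  · intro k hk l hl
    rw [hrange] at hl ⊢
    exact LocalBalance.conj_mem_map_fixed (π := proj) (Φ := slField σ * slInvTrans) proj_surjective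
      (QuotientGroup.ker_mk' _).le (fun s => rfl) hk hl
  · intro M hM hco
    let e := MonoidHom.ofInjective (psuToPSL_injective (n := n) hF (by omega))
    haveI hM' : (M.map e.symm.toMonoidHom).Normal := hM.map _ e.symm.surjective
    refine (Subgroup.map_eq_bot_iff_of_injective _ e.symm.injective).1
      ((IsSimpleGroup.eq_bot_or_eq_top_of_normal _ hM').resolve_right fun ht => ?_)
    have hcard := Subgroup.card_map_of_injective (K := M) (f := e.symm.toMonoidHom) e.symm.injective
    rw [ht, Subgroup.card_top] at hcard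
    rw [← hcard] at hco
    have hdvd := PSUBalance.dvd_card_psu hF hn Nat.prime_two (n := n) (by
      rw [← Classical.succ_mul_natCard_SU hF n (by omega)]
      exact Dvd.dvd.mul_right (by omega) _)
    exact absurd (Nat.eq_one_of_dvd_coprimes hco hdvd dvd_rfl) (by norm_num)
  · intro a hax hco hfix
    obtain ⟨g, τ, rfl⟩ := form_of_odd (by omega) a (Nat.coprime_two_right.1 hco)
    have hστ : τ * σ = σ * τ := RingEquiv.ext fun y => by
      show τ (σ y) = σ (τ y)
      rw [hQ, hQ, map_pow]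
    have hcomm : conj g ∈ Subgroup.centralizer {(fieldAut σ * invTrans : MulAut (PSLn n F))} := by
      have h1 : (conj g * fieldAut (τ * σ) * invTrans : MulAut (PSLn n F))
          = conj (glField σ (glInvTrans g)) * fieldAut (σ * τ) * invTrans := by
        calc (conj g * fieldAut (τ * σ) * invTrans : MulAut (PSLn n F))
            = conj g * fieldAut τ * (fieldAut σ * invTrans) := by rw [map_mul]; group
          _ = fieldAut σ * invTrans * conj g * fieldAut τ := by rw [hax]; group
          _ = conj (glField σ (glInvTrans g)) * (fieldAut σ * (invTrans * fieldAut τ)) := by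
              rw [graphField_mul_conj]; group
          _ = _ := by rw [invTrans_mul_fieldAut, map_mul]; group
      rw [Subgroup.mem_centralizer_singleton_iff, graphField_mul_conj]
      have h3 := normalForm_injective hn (b := true) (b' := true) (by simp only [if_true]; exact h1)
      rw [h3.1]
    obtain ⟨c, hc⟩ := (commute_graphField_iff σ g).1 hcomm
    obtain ⟨μ, h, rfl, hh⟩ := exists_unitary_of_commute (by omega) σ hσ hc
    rw [conj_scalar_mul] at hfix ⊢
    let h' : PSUAut.GUType n F q₀ := ⟨h, (mem_GU_iff σ hQ h).2 hh⟩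
    have hone : (PSUAut.conj h' * PSUAut.fieldAut τ : MulAut (Cfsg.PSU n F q₀)) = 1 := by
      refine PSUAut.aut_ext fun s => psuToPSL_injective hF (by omega : 1 ≤ n) ?_
      refine Eq.trans ?_ (hfix _ ⟨PSUAut.proj s, rfl⟩)
      rfl
    obtain ⟨rfl, t, -, ht⟩ := PSUAut.eq_one_and_scalar_of_eq_one (p := r) hF hn h' τ hone
    rw [map_one, mul_one, PSLAut.conj_eq_one_iff, mem_center_iff_scalar]
    have ht0 : t ≠ 0 := by
      rintro rfl
      have h0 := ht (Pi.single ⟨0, by omega⟩ 1)
      rw [zero_smul] at h0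
      have := congrArg (PSUAut.gv h⁻¹) h0
      rw [PSUAut.gv_inv_cancel'] at this
      simpa [PSUAut.gv] using congrFun this ⟨0, by omega⟩
    refine ⟨Units.mk0 t ht0, Units.ext (Matrix.ext_iff_mulVec.2 fun v => ?_)⟩
    show _ = PSUAut.gv h'.1 v
    rw [ht]
    funext i
    simp [GeneralLinearGroup.coe_scalar, Matrix.mulVec_diagonal]

end Cfsg.Agent.Lib.PSLBalance
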