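import Cfsg.Agent.Lib.PSLBalance.Field
import Cfsg.Agent.Lib.PSLBalance.GraphField
import Cfsg.Agent.Lib.PSLBalance.Graph
import Cfsg.Agent.Lib.PSLAut.GraphClasses

/-!
# Failure of local balance in `PSL_n(F)` outside `Inndiag`
-/

set_option autoImplicit false
set_option linter.unusedSectionVars false

namespace Cfsg.Agent.Lib.PSLBalance

open scoped MatrixGroups
open Matrix PSLAut FieldDescent

variable {n : ℕ} {F : Type*} [Field F] [Fintype F]

theorem comap_inn (A : Subgroup (MulAut (PSLn n F))) (hinn : ∀ k : PSLn n F, MulAut.conj k ∈ A)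
    (c : MulAut (PSLn n F)) : ∀ y : PSLn n F, MulAut.conj y ∈ A.comap (MulAut.conj c).toMonoidHom := fun y => by
  show c * MulAut.conj y * c⁻¹ ∈ A
  rw [LocalBalance.mul_conj_inv]
  exact hinn _

theorem isFieldAut_fieldAut (σ : F ≃+* F) : Cfsg.IsFieldAutPSL (fieldAut σ : MulAut (PSLn n F)) :=
  ⟨σ, (isStdFieldAut_iff σ _).2 rfl⟩

theorem field_eq_one {σ : F ≃+* F} (hn : 2 ≤ n) {g : GL (Fin n) F}
    (h : (conj g * fieldAut σ : MulAut (PSLn n F)) = 1) : σ = 1 :=
  (conj_eq_fieldAut hn (g := g⁻¹) (σ := σ) (by rw [map_inv, inv_eq_iff_mul_eq_one]; exact h)).1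

theorem local_balance (hn : 2 ≤ n) {r : ℕ} [Fact r.Prime] [CharP F r]
    (A : Subgroup (MulAut (PSLn n F))) (hinn : ∀ k : PSLn n F, MulAut.conj k ∈ A) {p : ℕ} [Fact p.Prime]
    (hpr : p ≠ r) (β : MulAut (PSLn n F)) (hord : orderOf β = p) (hnot : ¬ Cfsg.IsInnerDiagonalAutPSL β) :
    Cfsg.pPrimeCore p ↥(A ⊓ Subgroup.centralizer {β}) ≠ ⊥ ↔
      ((∃ γ φ : MulAut (PSLn n F), Cfsg.IsInnerDiagonalAutPSL γ ∧ Cfsg.IsFieldAutPSL φ ∧ β = φ.trans γ) ∧
        Nat.Coprime p (Nat.card ↥(MonoidHom.eqLocus β.toMonoidHom (MonoidHom.id (PSLn n F))))) := by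
  have hp : p.Prime := Fact.out
  obtain ⟨g, σ, hx | ⟨hn3, hx⟩⟩ := normal_form hn β
  · rw [and_iff_right (a := ∃ γ φ : MulAut (PSLn n F), Cfsg.IsInnerDiagonalAutPSL γ ∧
        Cfsg.IsFieldAutPSL φ ∧ β = φ.trans γ)
      ⟨conj g, fieldAut σ, (isInnerDiagonal_iff _).2 ⟨g, rfl⟩, isFieldAut_fieldAut σ, hx⟩]
    have hσ1 : σ ≠ 1 := fun h => hnot ((isInnerDiagonal_iff β).2 ⟨g, by rw [hx, h, map_one, mul_one]⟩)
    have hpow : (conj g * fieldAut σ : MulAut (PSLn n F)) ^ p = 1 := by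
      rw [← hx, ← hord, pow_orderOf_eq_one]
    have hσp : σ ^ p = 1 := by
      rw [conj_mul_fieldAut_pow] at hpow
      exact field_eq_one hn hpow
    have hσ : orderOf σ = p := orderOf_eq_prime hσp hσ1
    obtain ⟨k, hk⟩ := field_order_imp_conj hn σ g (by rw [hσ]; exact hpow)
    rw [← hx] at hk
    rw [hk, ne_eq, LocalBalance.core_conj, LocalBalance.natCard_fixed_conj]
    exact core_field_iff σ hn (r := r) hp hpr hσ _ (comap_inn A hinn _)
  · have hp2 : p = 2 := by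
      rcases hp.eq_two_or_odd' with h | hodd
      · exact h
      · exact absurd (by rw [← hx, ← hord, pow_orderOf_eq_one]) (graph_pow_ne_one hn3 g σ hodd)
    subst hp2
    have h2 : (2 : F) ≠ 0 := fun h2 => hpr ((Nat.prime_dvd_prime_iff_eq Fact.out Nat.prime_two).1
      ((CharP.cast_eq_zero_iff F r 2).1 (by exact_mod_cast h2))).symm
    have hcore : Cfsg.pPrimeCore 2 ↥(A ⊓ Subgroup.centralizer {β}) = ⊥ := by
      by_cases hσ1 : σ = 1
      · have hM : β = graphAut g⁻¹ := by rw [hx, hσ1, map_one, mul_one, graphAut, inv_inv]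
        rw [hM]
        exact core_graph_eq_bot hn3 (r := r) h2 g⁻¹ (symm_or_skew hn3 (by rw [← hM, hord])) A hinn
      · have hpow : (conj g * (fieldAut σ * invTrans) : MulAut (PSLn n F)) ^ 2 = 1 := by
          rw [← mul_assoc, ← hx, ← hord, pow_orderOf_eq_one]
        have hσ2 : σ ^ 2 = 1 := by
          have h := hpow
          rw [sq, mul_assoc (conj g), ← mul_assoc (fieldAut σ * invTrans), graphField_mul_conj,
            mul_assoc, ← sq (fieldAut σ * invTrans : MulAut (PSLn n F)), graphField_pow,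
            invTrans_pow_even even_two, mul_one, ← mul_assoc, ← map_mul conj] at h
          exact field_eq_one hn h
        have hσ : orderOf σ = 2 := orderOf_eq_prime hσ2 hσ1
        obtain ⟨k, hk⟩ := graphField_order_imp_conj (by omega) σ hσ g hpow
        rw [← mul_assoc (conj g), ← hx] at hk
        rw [hk, LocalBalance.core_conj]
        exact core_graphField_eq_bot hn3 (r := r) h2 σ hσ _ (comap_inn A hinn _)
    refine iff_of_false (fun h => h hcore) ?_
    rintro ⟨⟨γ, φ, hγ, ⟨τ, hτ⟩, hβ⟩, -⟩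
    obtain ⟨g', rfl⟩ := (isInnerDiagonal_iff γ).1 hγ
    obtain rfl := (isStdFieldAut_iff τ φ).1 hτ
    exact form_ne_graph hn3 g g' σ τ (hx ▸ hβ)

end Cfsg.Agent.Lib.PSLBalance
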